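import Cfsg.Agent.Omega.ESOne.Fields

/-!
# THEOREM S'' : symmetries of the frame `Sk0`, and the end

* `Sk0.sy_of_norm` : `g ∈ N_G(B)`, `g z_l g⁻¹ = z (π l)`: `CoreS.Sy O Y N g π`;
* `Sk0.exists_sy` : any `g` with `g z_l g⁻¹ = z (π l)` gives `∃ g', Sy O Y N g' π`;
* `Sk0.KZ_le`, `Sk0.false_of` : the end: `CoreS.Core` and `NLoc (KZ B ZJ)` are incompatible.
-/

set_option autoImplicit false
set_option linter.unusedSectionVars false

namespace Cfsg.Agent.Omega.ESOne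

open Subgroup Cfsg Cfsg.Agent.ZN.ChoiceBase
open Cfsg.Agent.ZN (zc zl o2)
open Cfsg.Agent.ZN.ChoiceSit (Syl)
open Cfsg.Agent.Omega.EK3.StarE (EE le_EE norm_EE EE_le cj_le_EE cj_iSup_le)
open Cfsg.Agent.Omega.EK3.Rank (NoOn)
open Cfsg.Agent.Omega.ESym.CoreS (EI Sy Core)
open Cfsg.Agent.Omega.Node.MultiOf (KZ NLoc FBl)

universe u

variable {G : Type u} [Group G] [Finite G] {S : Sylow 2 G} {K B ZJ Q V : Subgroup G} {ι : Type}
  {L W Z C : ι → Subgroup G} {z : ι → G}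

omit [Finite G] in
theorem cent_le_D (U ZJ : Subgroup G) : centralizer ((U ⊔ ZJ : Subgroup G) : Set G) ≤ centralizer (ZJ : Set G) :=
  centralizer_le (SetLike.coe_subset_coe.2 le_sup_right)

namespace Sk0

variable (h : Sk0 S K B ZJ Q V L W Z C z)
include h

theorem W_inj {i j : ι} (e : W i = W j) : i = j := by
  by_contra hij
  have h1 : z i ∈ W i ⊓ C i := mem_inf.2 ⟨(h.fr.blk i).ZV (h.z_mem_Z i), by
    have h2 : z i ∈ W j := by rw [← e]; exact (h.fr.blk i).ZV (h.z_mem_Z i)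
    exact h.fr.WjC i j hij h2⟩
  rw [h.fr.dir i, mem_bot] at h1
  exact h.z_ne i h1

/-- an FF-block over `B` with module `W i` is contained in `Y i` -/
theorem blk_le {L' : Subgroup G} {i : ι} (hb : FBl B L' (W i)) : L' ≤ YY ZJ L i := by
  obtain ⟨j, hj, h1⟩ := h.uni _ _ hb
  have := h.W_inj hj
  subst this
  exact h1.trans (sup_le (L_le_Y i) ((cent_le_D _ _).trans (D_le_Y i)))

theorem cj_Y_le {g : G} (hg : g ∈ normalizer (B : Set G)) {l m : ι} (hl : g * z l * g⁻¹ = z m) :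
    cj g (YY ZJ L l) ≤ YY ZJ L m := by
  obtain ⟨m', hm, hW⟩ := h.cj_z hg l
  have e : m' = m := h.z_inj (hm.symm.trans hl)
  subst e
  have h1 : cj g (L l) ≤ YY ZJ L m' := by
    have h2 := (h.fbl l).conj hg
    rw [hW] at h2
    exact h.blk_le h2
  show cj g (centralizer (ZJ : Set G) ⊔ L l) ≤ _
  rw [cj_sup, cj_centralizer, cj_eq_of_mem_normalizer (h.norm_ZJ hg)]
  exact sup_le (D_le_Y m') h1

theorem cj_N_le {g : G} (hg : g ∈ normalizer (B : Set G)) {l m : ι} (hl : g * z l * g⁻¹ = z m) :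
    cj g (NN ZJ L z l) ≤ NN ZJ L z m := by
  refine cj_iSup_le fun y => ?_
  have h1 : g * y * g⁻¹ ∈ YY ZJ L m := h.cj_Y_le hg hl ⟨y, y.2, rfl⟩
  have h2 : cj g (zpowers (z l)) ≤ zpowers (z m) := by
    rintro _ ⟨x, hx, rfl⟩
    obtain ⟨n, rfl⟩ := mem_zpowers_iff.1 hx
    refine mem_zpowers_iff.2 ⟨n, ?_⟩
    show z m ^ n = g * z l ^ n * g⁻¹
    rw [← conj_zpow, hl]
  have h3 : cj g (cj (y : G) (zpowers (z l))) = cj (g * y * g⁻¹) (cj g (zpowers (z l))) := by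
    rw [cj_cj, cj_cj]
    congr 1
    group
  rw [h3]
  exact (cj_mono _ h2).trans (cj_le_EE h1)

/-- **a symmetry from `N_G(B)`** -/
theorem sy_of_norm {g : G} (hg : g ∈ normalizer (B : Set G)) {π : Equiv.Perm ι}
    (hπ : ∀ l, g * z l * g⁻¹ = z (π l)) : Sy (OO ZJ) (YY ZJ L) (NN ZJ L z) g π := by
  have hinv : ∀ l, g⁻¹ * z (π l) * g⁻¹⁻¹ = z l := fun l => by
    rw [← hπ l]; group
  have hg' : g⁻¹ ∈ normalizer (B : Set G) := inv_mem hg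
  refine ⟨?_, fun l => le_antisymm (h.cj_Y_le hg (hπ l)) ?_, fun l => le_antisymm (h.cj_N_le hg (hπ l)) ?_⟩
  · have h1 : g ∈ normalizer (centralizer (ZJ : Set G) : Set G) := by
      rw [mem_normalizer_iff_cj, cj_centralizer, cj_eq_of_mem_normalizer (h.norm_ZJ hg)]
    exact cj_eq_of_mem_normalizer (ZN.normalizer_le_normalizer_o2 _ h1)
  · have h1 := cj_mono g (h.cj_Y_le hg' (hinv l))
    rwa [cj_cj_inv] at h1
  · have h1 := cj_mono g (h.cj_N_le hg' (hinv l))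
    rwa [cj_cj_inv] at h1

/-- an element which permutes the `z l` normalises `ZJ` -/
theorem norm_of_perm [Finite ι] {g : G} {π : Equiv.Perm ι} (hπ : ∀ l, g * z l * g⁻¹ = z (π l)) :
    g ∈ normalizer (ZJ : Set G) := by
  have key : ∀ (g : G) (π : Equiv.Perm ι), (∀ l, g * z l * g⁻¹ = z (π l)) → cj g ZJ ≤ ZJ := by
    intro g π hπ
    refine (cj_mono g h.ZJ_le).trans (cj_iSup_le fun l => ?_)
    rintro _ ⟨x, hx, rfl⟩
    rcases (h.hz l x).1 hx with rfl | rfl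
    · show g * 1 * g⁻¹ ∈ ZJ
      rw [mul_one, mul_inv_cancel]
      exact one_mem _
    · show g * z l * g⁻¹ ∈ ZJ
      rw [hπ]
      exact h.z_mem _
  refine EK3.StarE.norm_of_cj_le (key g π hπ) (key g⁻¹ π⁻¹ fun l => ?_)
  have h1 := hπ (π⁻¹ l)
  rw [show π (π⁻¹ l) = l by simp] at h1
  rw [← h1]; group

/-- **any element which permutes the `z l`** -/
theorem exists_sy [Finite ι] {g : G} {π : Equiv.Perm ι} (hπ : ∀ l, g * z l * g⁻¹ = z (π l)) :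
    ∃ g', Sy (OO ZJ) (YY ZJ L) (NN ZJ L z) g' π := by
  obtain ⟨d, hd, n, hn, rfl⟩ := h.lb.exists_frattini (h.norm_of_perm hπ)
  refine ⟨n, h.sy_of_norm hn fun l => ?_⟩
  have h1 := hπ l
  have h2 : d⁻¹ * z (π l) * d = z (π l) := by
    have h3 := mem_centralizer_iff.1 hd (z (π l)) (h.z_mem _)
    rw [mul_assoc, h3]; group
  rw [← h2, ← h1]; group

/-- `KZ` is generated by the `Y i` -/
theorem KZ_le [Nonempty ι] : KZ B ZJ ≤ ⨆ i, YY ZJ L i := by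
  obtain ⟨i₀⟩ := ‹Nonempty ι›
  refine sup_le ((D_le_Y i₀).trans (le_iSup (fun i => YY ZJ L i) i₀)) (iSup_le fun i => ?_)
  obtain ⟨j, hj, h1⟩ := h.uni _ _ i.2
  exact (h1.trans (sup_le (L_le_Y j) ((cent_le_D _ _).trans (D_le_Y j)))).trans
    (le_iSup (fun i => YY ZJ L i) j)

/-- **`CoreS.Core`** -/
theorem core [Finite ι] [Nonempty ι] (three : ∀ i j : ι, ∃ l, l ≠ i ∧ l ≠ j)
    (no : ∀ i, NoOn (OO ZJ) (NN ZJ L z i))
    (gen : ∀ j, ∀ K : Subgroup G, K ≤ YY ZJ L j → YY ZJ L j ≤ normalizer (K : Set G) →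
      ¬ K ⊓ OO ZJ ≤ centralizer (NN ZJ L z j : Set G) → YY ZJ L j ≤ K ⊔ centralizer (ZJ : Set G))
    (tr : ∀ i j, ∃ g, ∃ π : Equiv.Perm ι, (∀ l, g * z l * g⁻¹ = z (π l)) ∧ π i = j)
    (sw : ∀ i j, i ≠ j → ∃ g, ∃ π : Equiv.Perm ι, (∀ l, g * z l * g⁻¹ = z (π l)) ∧
      ((π i = i ∧ π j ≠ j) ∨ (π i = j ∧ π j = i))) :
    Core (OO ZJ) (centralizer (ZJ : Set G)) ZJ (YY ZJ L) (NN ZJ L z) where
  two := OO_two
  OY := OO_le_Y
  OZ := OO_le_D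
  DY := D_le_Y
  three := three
  ne := inferInstance
  eab := h.eab
  NE := h.NE
  YN := Y_norm_N
  YQ := h.YQ
  no := no
  gen := gen
  tr := fun i j => by
    obtain ⟨g, π, hπ, h1⟩ := tr i j
    obtain ⟨g', hs⟩ := h.exists_sy hπ
    exact ⟨g', π, hs, h1⟩
  sw := fun i j hij => by
    obtain ⟨g, π, hπ, h1⟩ := sw i j hij
    obtain ⟨g', hs⟩ := h.exists_sy hπ
    exact ⟨g', π, hs, h1⟩

/-- **THEOREM S''** over `Sk0` -/
theorem false_of [Finite ι] [Nonempty ι] (hN : NLoc (KZ B ZJ)) (three : ∀ i j : ι, ∃ l, l ≠ i ∧ l ≠ j)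
    (no : ∀ i, NoOn (OO ZJ) (NN ZJ L z i))
    (gen : ∀ j, ∀ K : Subgroup G, K ≤ YY ZJ L j → YY ZJ L j ≤ normalizer (K : Set G) →
      ¬ K ⊓ OO ZJ ≤ centralizer (NN ZJ L z j : Set G) → YY ZJ L j ≤ K ⊔ centralizer (ZJ : Set G))
    (tr : ∀ i j, ∃ g, ∃ π : Equiv.Perm ι, (∀ l, g * z l * g⁻¹ = z (π l)) ∧ π i = j)
    (sw : ∀ i j, i ≠ j → ∃ g, ∃ π : Equiv.Perm ι, (∀ l, g * z l * g⁻¹ = z (π l)) ∧
      ((π i = i ∧ π j ≠ j) ∨ (π i = j ∧ π j = i))) : False := by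
  obtain ⟨i₀⟩ := ‹Nonempty ι›
  have : Nonempty ι := ⟨i₀⟩
  have hO : OO ZJ ≠ ⊥ := by
    intro e
    have h1 : z i₀ ∈ OO ZJ := h.NO i₀ (by
      intro e1
      obtain ⟨l, hl, -⟩ := three i₀ i₀
      exact hl (Set.mem_singleton_iff.1 (e1 ▸ Set.mem_univ l))) (z_mem_N i₀)
    rw [e, mem_bot] at h1
    exact h.z_ne i₀ h1
  obtain ⟨R, hR, hR2, hn⟩ := (h.core three no gen tr sw).local hO
  exact hR (hN R hR2 (h.KZ_le.trans (iSup_le hn)))

end Sk0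

end Cfsg.Agent.Omega.ESOne
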