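import Cfsg.Agent.Omega.ESOne.Base
import Cfsg.Agent.Omega.ESym.CoreS
import Cfsg.Agent.ZN.Facts

/-!
# THEOREM S'' : the fields of `ESym.CoreS.Core` over the small frame `Sk0`

`D = C_G(ZJ)`, `O = O₂(D)`, `Y j = ⟨D, L j⟩`, `N j = ⟨z j ^ (Y j)⟩`.

* `Sk0.cap` : `C_(Y j)(z j) ≤ D`;  `Sk0.syl_Y` : `B` is a Sylow 2-subgroup of `Y j`;
* `Sk0.OY`, `Sk0.OZ`, `Sk0.eab`, `Sk0.NE`, `Sk0.YN`, `Sk0.YQ`, `Sk0.Nel`, `Sk0.NO`.
-/

set_option autoImplicit false
set_option linter.unusedSectionVars false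

namespace Cfsg.Agent.Omega.ESOne

open Subgroup Cfsg Cfsg.Agent.ZN.ChoiceBase
open Cfsg.Agent.ZN (zc zl o2)
open Cfsg.Agent.ZN.ChoiceSit (Syl)
open Cfsg.Agent.Omega.EK3 (CT mem_CT CT_mono ET CT_norm_ET ZJ_le_ET)
open Cfsg.Agent.Omega.EK3.StarE (EE le_EE norm_EE EE_le cj_le_EE)
open Cfsg.Agent.Omega.ESym.CoreS (EI)
open Cfsg.Agent.MinSimple.VModule (o2_isPGroup le_o2 le_normalizer_o2)

universe u

variable {G : Type u} [Group G] [Finite G] {S : Sylow 2 G} {K B ZJ Q V : Subgroup G} {ι : Type}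
  {L W Z C : ι → Subgroup G} {z : ι → G}

omit [Finite G] in
theorem D_le_Y (j : ι) : centralizer (ZJ : Set G) ≤ YY ZJ L j := le_sup_left

omit [Finite G] in
theorem L_le_Y (j : ι) : L j ≤ YY ZJ L j := le_sup_right

omit [Finite G] in
theorem z_mem_N (j : ι) : z j ∈ NN ZJ L z j := le_EE _ _ (mem_zpowers _)

omit [Finite G] in
theorem Y_norm_N (j : ι) : YY ZJ L j ≤ normalizer (NN ZJ L z j : Set G) := norm_EE _ _

theorem OO_two : IsPGroup 2 (OO ZJ) := o2_isPGroup _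

theorem OO_le_D : OO ZJ ≤ centralizer (ZJ : Set G) := MinSimple.VModule.o2_le _

theorem OO_le_Y (j : ι) : OO ZJ ≤ YY ZJ L j := OO_le_D.trans (D_le_Y j)

namespace Sk0

variable (h : Sk0 S K B ZJ Q V L W Z C z)
include h

/-- `Y j` centralises `z l`, `l ≠ j` -/
theorem Y_le_CT {j : ι} {T : Set ι} (hj : j ∉ T) : YY ZJ L j ≤ CT z T := sup_le h.cent_le_CT (h.L_le_CT hj)

/-- `C_(Y j)(z j) ≤ D` -/
theorem cap [Finite ι] (j : ι) : YY ZJ L j ⊓ centralizer ({z j} : Set G) ≤ centralizer (ZJ : Set G) := by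
  intro x hx
  refine h.mem_cent_ZJ fun i => ?_
  by_cases hij : i = j
  · subst hij
    exact mem_centralizer_singleton_iff.1 hx.2
  · exact mem_CT.1 (h.Y_le_CT (T := {i}) (fun e => hij (Set.mem_singleton_iff.1 e).symm) hx.1) i rfl

theorem cap_N [Finite ι] (j : ι) : YY ZJ L j ⊓ centralizer (NN ZJ L z j : Set G) ≤ centralizer (ZJ : Set G) :=
  (inf_le_inf_left _ (centralizer_le (Set.singleton_subset_iff.2 (z_mem_N j)))).trans (h.cap j)

/-- an element of `Y j` normalising `B` is in `D` -/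
theorem norm_le [Finite ι] (j : ι) : YY ZJ L j ⊓ normalizer (B : Set G) ≤ centralizer (ZJ : Set G) := by
  intro x hx
  refine h.cap j (mem_inf.2 ⟨hx.1, mem_centralizer_singleton_iff.2 ?_⟩)
  obtain ⟨m, hm⟩ := h.cj_Z hx.2 j
  by_cases hmj : m = j
  · rw [hmj] at hm
    exact mul_inv_eq_iff_eq_mul.1 hm
  · have h1 := mem_CT.1 (h.Y_le_CT (T := {m}) (fun e => hmj (Set.mem_singleton_iff.1 e).symm) hx.1) m rfl
    exfalso
    apply hmj
    refine h.z_inj ?_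
    have h2 : x * z m * x⁻¹ = z m := by rw [h1]; group
    rw [← hm] at h2
    have h3 : x * z j * x⁻¹ = z j := by
      have : x⁻¹ * (x * (x * z j * x⁻¹) * x⁻¹) * x = x⁻¹ * (x * z j * x⁻¹) * x := by rw [h2]
      calc x * z j * x⁻¹ = x⁻¹ * (x * (x * z j * x⁻¹) * x⁻¹) * x := by group
        _ = x⁻¹ * (x * z j * x⁻¹) * x := this
        _ = z j := by group
    rw [← hm, h3]

/-- **`B` is a Sylow 2-subgroup of `Y j`** -/
theorem syl_Y [Finite ι] (j : ι) : Syl B (YY ZJ L j) := by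
  refine ⟨h.syl_B.1.trans (D_le_Y j), h.bau_two, fun R hR hR2 hBR => ?_⟩
  have h1 : R ≤ centralizer (ZJ : Set G) := fun r hr => h.norm_le j ⟨hR hr, h.le_norm_B hR2 hBR hr⟩
  exact h.syl_B.2.2 R h1 hR2 hBR

/-- `E_I` is elementary abelian and `≤ O` -/
theorem eab [Finite ι] (I : Set ι) (hI : I ≠ Set.univ) :
    IsElementaryAbelian 2 (EI ZJ (YY ZJ L) I : Subgroup G) ∧ EI ZJ (YY ZJ L) I ≤ OO ZJ := by
  obtain ⟨v, hv⟩ := (Set.ne_univ_iff_exists_notMem I).1 hI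
  have hT : ({v} : Set ι).Nonempty := ⟨v, rfl⟩
  have h1 : (⨆ i : I, YY ZJ L i : Subgroup G) ≤ CT z {v} :=
    iSup_le fun i => h.Y_le_CT fun e => hv (Set.mem_singleton_iff.1 e ▸ i.2)
  have h2 : EI ZJ (YY ZJ L) I ≤ ET ZJ z {v} := by
    refine iSup_le fun y => ?_
    have h3 := cj_mono (y : G) (ZJ_le_ET (ZJ := ZJ) (z := z) (T := {v}))
    rwa [cj_eq_of_mem_normalizer (CT_norm_ET (h1 y.2))] at h3
  refine ⟨?_, h2.trans (h.ET_le_O hT)⟩
  refine ⟨⟨⟨fun x y => ?_⟩⟩, fun x hx => h.ET_sq hT (h2 hx)⟩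
  exact Subtype.ext (h.ET_comm hT (h2 x.2) (h2 y.2))

omit h in
theorem NE' (j : ι) (hz : zpowers (z j) ≤ ZJ) : NN ZJ L z j ≤ EI ZJ (YY ZJ L) {j} := by
  refine EE_le fun y hy => (cj_mono y hz).trans ?_
  have h1 : YY ZJ L j ≤ (⨆ i : ({j} : Set ι), YY ZJ L i : Subgroup G) :=
    le_iSup (fun i : ({j} : Set ι) => YY ZJ L i) ⟨j, rfl⟩
  exact le_iSup (fun y : (⨆ i : ({j} : Set ι), YY ZJ L i : Subgroup G) => cj (y : G) ZJ) ⟨y, h1 hy⟩

theorem NE (j : ι) : NN ZJ L z j ≤ EI ZJ (YY ZJ L) {j} := NE' j (zpowers_le.2 (h.z_mem j))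

theorem Nel [Finite ι] (j : ι) (hj : ({j} : Set ι) ≠ Set.univ) : IsElementaryAbelian 2 (NN ZJ L z j) :=
  NO3S.EThree.ExactA.eab_mono (h.eab {j} hj).1 (h.NE j)

theorem NO [Finite ι] (j : ι) (hj : ({j} : Set ι) ≠ Set.univ) : NN ZJ L z j ≤ OO ZJ :=
  (h.NE j).trans (h.eab {j} hj).2

/-- **`C_O(N j)` is normal in `Y j`** -/
theorem YQ [Finite ι] (j : ι) :
    YY ZJ L j ≤ normalizer ((OO ZJ ⊓ centralizer (NN ZJ L z j : Set G) : Subgroup G) : Set G) := by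
  set Y := YY ZJ L j with hY
  set N := NN ZJ L z j with hN
  set C' : Subgroup G := Y ⊓ centralizer (N : Set G) with hC'
  have hYC : Y ≤ normalizer (C' : Set G) := by
    intro y hy
    rw [mem_normalizer_iff_cj, hC', cj_inf, cj_centralizer, cj_eq_of_mem_normalizer (Y_norm_N j hy),
      cj_eq_of_mem_normalizer (Subgroup.le_normalizer hy)]
  have hCD : C' ≤ centralizer (ZJ : Set G) := h.cap_N j
  have hDO : centralizer (ZJ : Set G) ≤ normalizer (OO ZJ : Set G) := le_normalizer_o2 _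
  have e : OO ZJ ⊓ centralizer (N : Set G) = o2 C' := by
    apply le_antisymm
    · refine le_o2 (le_inf (inf_le_left.trans (OO_le_Y j)) inf_le_right) (OO_two.to_le inf_le_left) ?_
      intro c hc
      rw [mem_normalizer_iff_cj, cj_inf, cj_centralizer, cj_eq_of_mem_normalizer (hDO (hCD hc)),
        cj_eq_of_mem_normalizer (Y_norm_N j hc.1)]
    · refine le_inf ?_ ((MinSimple.VModule.o2_le _).trans inf_le_right)
      refine le_o2 ((MinSimple.VModule.o2_le _).trans hCD) (o2_isPGroup _) ?_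
      exact ((D_le_Y j).trans hYC).trans (ZN.normalizer_le_normalizer_o2 C')
  rw [e]
  exact hYC.trans (ZN.normalizer_le_normalizer_o2 C')

end Sk0

end Cfsg.Agent.Omega.ESOne
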