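import Cfsg.Agent.Omega.EK3.StarE

/-!
# THEOREM S (helper787, #23621): the frame of STAR with a 2-transitive group on the blocks is impossible

Over `EK3.StarE.Fr O D ZJ Y N L` (helper520), `O ≠ 1`, with

* `kd` : a normal subgroup `K` of `Y j` which moves `N j` covers `Y j` modulo `D`;
* `tr` : 2-transitivity on the pairs `(Y i, N i)`.

STAR gives one minimal offender `F` of `E = ⟨ZJ^⟨Y i, Y j⟩⟩` moving `N j`, `[E, F] ≤ N j`: `⟨F^(Y j)⟩ D = Y j` normalises
`N i N j`; by `tr` `Y b` normalises `N a N b` for all `a ≠ b`, so all `Y b` normalise `∏ N a`.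
-/

set_option autoImplicit false

namespace Cfsg.Agent.Omega.ESOne

open Subgroup Cfsg Cfsg.Agent.ZN Cfsg.Agent.ZN.ChoiceBase
open Cfsg.Agent.Omega.EK3.StarE
open Cfsg.Agent.Omega.NO3S.EThree
open scoped commutatorElement

universe u

variable {G : Type u} [Group G]

theorem cj_sup (g : G) (H K : Subgroup G) : cj g (H ⊔ K) = cj g H ⊔ cj g K := Subgroup.map_sup _ _ _

/-- `⟨F^H⟩` centralises `E` modulo `N` if `F` does; `H` normalises `E` and `N`. -/
theorem EE_comm {E N F H : Subgroup G} (hE : H ≤ normalizer (E : Set G)) (hN : H ≤ normalizer (N : Set G))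
    (hFH : F ≤ H) (h : ∀ e ∈ E, ∀ f ∈ F, ⁅e, f⁆ ∈ N) : ∀ e ∈ E, ∀ k ∈ EE F H, ⁅e, k⁆ ∈ N := by
  let K : Subgroup G :=
    { carrier := {k | k ∈ H ∧ ∀ e ∈ E, ⁅e, k⁆ ∈ N}
      one_mem' := ⟨one_mem _, fun e _ => by simp⟩
      mul_mem' := by
        rintro a b ⟨ha, ha'⟩ ⟨hb, hb'⟩
        refine ⟨mul_mem ha hb, fun e he => ?_⟩
        have e1 : ⁅e, a * b⁆ = ⁅e, a⁆ * (a * ⁅e, b⁆ * a⁻¹) := by
          simp only [commutatorElement_def]; group
        rw [e1]
        exact mul_mem (ha' e he) ((mem_normalizer_iff.1 (hN ha) _).1 (hb' e he))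
      inv_mem' := by
        rintro a ⟨ha, ha'⟩
        refine ⟨inv_mem ha, fun e he => ?_⟩
        have e1 : ⁅e, a⁻¹⁆ = a⁻¹ * (⁅e, a⁆)⁻¹ * a⁻¹⁻¹ := by
          simp only [commutatorElement_def]; group
        rw [e1]
        exact (mem_normalizer_iff.1 (hN (inv_mem ha)) _).1 (inv_mem (ha' e he)) }
  have hle : EE F H ≤ K := by
    refine EE_le fun y hy => ?_
    rintro _ ⟨f, hf, rfl⟩
    refine ⟨?_, fun e he => ?_⟩
    · exact mul_mem (mul_mem hy (hFH hf)) (inv_mem hy)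
    · have h1 : y⁻¹ * e * y ∈ E := by
        have := (mem_normalizer_iff.1 (hE (inv_mem hy)) e).1 he
        rwa [inv_inv] at this
      have e1 : ⁅e, y * f * y⁻¹⁆ = y * ⁅y⁻¹ * e * y, f⁆ * y⁻¹ := by
        simp only [commutatorElement_def]; group
      show ⁅e, y * f * y⁻¹⁆ ∈ N
      rw [e1]
      exact (mem_normalizer_iff.1 (hN hy) _).1 (h _ h1 f hf)
  exact fun e he k hk => (hle hk).2 e he

variable [Finite G] {ι : Type*} [Finite ι] {O D ZJ : Subgroup G} {Y N L : ι → Subgroup G}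

/-- STAR: for some `i ≠ j`, `Y j` normalises `N i ⊔ N j`, and some element of `O` moves `N j`. -/
theorem exists_norm (h : Fr O D ZJ Y N L) (hO : O ≠ ⊥)
    (kd : ∀ j (K : Subgroup G), K ≤ Y j → Y j ≤ normalizer (K : Set G) → ¬ K ≤ centralizer (N j : Set G) →
      Y j ≤ K ⊔ D) :
    ∃ i j, i ≠ j ∧ N j ≠ ⊥ ∧ Y j ≤ normalizer ((N i ⊔ N j : Subgroup G) : Set G) := by
  obtain ⟨i, j, F₁, F, x, o⟩ := h.star hO
  refine ⟨i, j, o.ne, fun e => o.mov ?_, ?_⟩
  · rw [e]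
    intro x _
    rw [mem_centralizer_iff]
    rintro y hy
    rw [SetLike.mem_coe, mem_bot] at hy
    rw [hy, one_mul, mul_one]
  set E := EE ZJ (Y i ⊔ Y j) with hE
  have hYE : Y j ≤ normalizer (E : Set G) := Out.YE o h
  have hEab : E ≤ centralizer (E : Set G) := (ExactA.eab_iff.1 (Out.elE o h)).1
  have hFY : F ≤ Y j := o.leO.trans (h.OY j)
  have hcomm : ∀ e ∈ E, ∀ f ∈ F, ⁅e, f⁆ ∈ N j := by
    intro e he f hf
    have h1 : ⁅e, f⁆ ∈ ⁅E, F⁆ := commutator_mem_commutator he hf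
    rw [o.off.commutator_eq h.NE'' o.mov (o.no h) hEab] at h1
    have h2 : ⁅N j, F⁆ ≤ N j := by
      rw [commutator_le]
      intro n hn x hx
      have h3 := (mem_normalizer_iff.1 (h.YN j (hFY hx)) n⁻¹).1 (inv_mem hn)
      rw [commutatorElement_def]
      have e : n * x * n⁻¹ * x⁻¹ = n * (x * n⁻¹ * x⁻¹) := by group
      rw [e]
      exact mul_mem hn h3
    exact h2 h1
  set K := EE F (Y j) with hK
  have hKc : ∀ e ∈ E, ∀ k ∈ K, ⁅e, k⁆ ∈ N j := EE_comm hYE (h.YN j) hFY hcomm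
  have hKY : K ≤ Y j := EE_le fun y hy => by
    rintro _ ⟨f, hf, rfl⟩
    exact mul_mem (mul_mem hy (hFY hf)) (inv_mem hy)
  have hkd := kd j K hKY (norm_EE _ _) fun hc => o.mov ((le_EE F (Y j)).trans hc)
  refine hkd.trans (sup_le ?_ ?_)
  · -- `K` normalises `N i ⊔ N j`
    refine le_norm_of_cj_le fun k hk => ?_
    rw [cj_sup]
    refine sup_le ?_ ?_
    · rintro _ ⟨n, hn, rfl⟩
      have h2 := hKc n⁻¹ (inv_mem (h.NE' hn)) k hk
      have e : k * n * k⁻¹ = n * ⁅n⁻¹, k⁆ := by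
        simp only [commutatorElement_def]; group
      show k * n * k⁻¹ ∈ _
      rw [e]
      exact mul_mem (mem_sup_left hn) (mem_sup_right h2)
    · rw [cj_eq_of_mem_normalizer (h.YN j (hKY hk))]
      exact le_sup_right
  · refine le_norm_of_cj_le fun d hd => ?_
    rw [cj_sup, cj_eq_of_mem_normalizer (h.DN i hd), cj_eq_of_mem_normalizer (h.DN j hd)]

/-- **THEOREM S.** -/
theorem false_of (h : Fr O D ZJ Y N L) (hO : O ≠ ⊥)
    (kd : ∀ j (K : Subgroup G), K ≤ Y j → Y j ≤ normalizer (K : Set G) → ¬ K ≤ centralizer (N j : Set G) →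
      Y j ≤ K ⊔ D)
    (tr : ∀ i j a b, i ≠ j → a ≠ b → ∃ g : G, cj g (Y j) = Y b ∧ cj g (N i) = N a ∧ cj g (N j) = N b) : False := by
  obtain ⟨i, j, hij, hNj, hY⟩ := exists_norm h hO kd
  have key : ∀ a b, a ≠ b → Y b ≤ normalizer ((N a ⊔ N b : Subgroup G) : Set G) := by
    intro a b hab
    obtain ⟨g, h1, h2, h3⟩ := tr i j a b hij hab
    have h4 := cj_mono g hY
    rwa [cj_normalizer, cj_sup, h1, h2, h3] at h4
  have hall : ∀ b, Y b ≤ normalizer ((⨆ a, N a : Subgroup G) : Set G) := by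
    intro b
    refine le_norm_of_cj_le fun y hy => cj_iSup_le fun a => ?_
    by_cases hab : a = b
    · subst hab
      rw [cj_eq_of_mem_normalizer (h.YN a hy)]
      exact le_iSup N a
    · have h4 : cj y (N a ⊔ N b) = N a ⊔ N b := cj_eq_of_mem_normalizer (key a b hab hy)
      exact (cj_mono y le_sup_left).trans (h4.le.trans (sup_le (le_iSup N a) (le_iSup N b)))
  have hb := h.nl (⨆ a, N a) (iSup_le h.NO) ((h.DY j).trans (hall j)) fun i => (h.LY i).trans (hall i)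
  exact hNj (le_bot_iff.1 (hb ▸ le_iSup N j))

end Cfsg.Agent.Omega.ESOne
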