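import Cfsg.Agent.Omega.ESOne.Def
import Cfsg.Agent.Omega.NOne.LemmaT
import Cfsg.Agent.Omega.NoFF.Basic
import Cfsg.Agent.Omega.EK3.Base

/-!
# THEOREM S (helper787, #23621), step (0) over `Sk0`: port of helper865's `EK3/Base.lean`

* `Sk0.cj_z` : `N_G(B)` permutes the `z i`;
* `Sk0.o2_CT_le_B`, `Sk0.o2_CT_le_cent`, `Sk0.o2_CT_le_of_le`;
* `Sk0.char2_CT`, `Sk0.ET_le_zc`, `Sk0.ET_sq`, `Sk0.ET_comm`, `Sk0.ET_le_o2`.
-/

set_option autoImplicit false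
set_option linter.unusedSectionVars false

namespace Cfsg.Agent.Omega.ESOne

open Subgroup Cfsg Cfsg.Agent.ZN.ChoiceBase
open Cfsg.Agent.ZN (zc zl o2)
open Cfsg.Agent.ZN.ChoiceSit (Syl)
open Cfsg.Agent.Omega.NO3S.EThree.Frame (Bg Fg)
open Cfsg.Agent.Omega.EK3 (CT mem_CT CT_mono ET CT_compl_le CT_compl_le' CT_norm_ET ZJ_le_ET V_le_ET)
open scoped Pointwise

universe u

variable {G : Type u} [Group G] [Finite G] {S : Sylow 2 G} {K B ZJ Q V : Subgroup G} {ι : Type}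
  {L W Z C : ι → Subgroup G} {z : ι → G} {T : Set ι}

namespace Sk0

variable (h : Sk0 S K B ZJ Q V L W Z C z)
include h

/-- `ZJ = ∏ Z i` -/
theorem ZJ_le [Finite ι] : ZJ ≤ ⨆ i, Z i := by
  classical
  have : Fintype ι := Fintype.ofFinite ι
  have key : ∀ s : Finset ι, ∀ v ∈ ZJ, ∃ w ∈ (⨆ i, Z i), w⁻¹ * v ∈ ZJ ∧ ∀ i ∈ s, w⁻¹ * v ∈ C i := by
    intro s
    induction s using Finset.induction_on with
    | empty => exact fun v hv => ⟨1, one_mem _, by simpa using hv, fun i hi => by simp at hi⟩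
    | insert j s hj ih =>
      intro v hv
      obtain ⟨w, hw, hwV, hwC⟩ := ih v hv
      obtain ⟨a, ha, c, hc, hcJ, e⟩ := h.fr.split_ZJ j hwV
      have e1 : (w * a)⁻¹ * v = a⁻¹ * (w⁻¹ * v) := by group
      have e2 : a⁻¹ * (w⁻¹ * v) = c := by rw [e]; group
      refine ⟨w * a, mul_mem hw ((le_iSup Z j) ha), by rw [e1, e2]; exact hcJ, fun i hi => ?_⟩
      rw [e1]
      rcases Finset.mem_insert.1 hi with rfl | hi
      · rw [e2]
        exact hc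
      · have hij : i ≠ j := fun e => hj (e ▸ hi)
        exact mul_mem (inv_mem (h.fr.WjC i j hij ((h.fr.blk j).ZV ha))) (hwC i hi)
  intro v hv
  obtain ⟨w, hw, hwV, hwC⟩ := key Finset.univ v hv
  have h1 := h.fr.C0 (w⁻¹ * v) (h.fr.ZJV hwV) fun i => hwC i (Finset.mem_univ i)
  have h2 : v = w := (inv_mul_eq_one.1 h1).symm
  rw [h2]
  exact hw

theorem z_mem_Z (i : ι) : z i ∈ Z i := (h.hz i _).2 (Or.inr rfl)

theorem z_mem (i : ι) : z i ∈ ZJ := h.fr.Z_le i (h.z_mem_Z i)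

theorem Z_ne (i : ι) : Z i ≠ ⊥ := by
  intro e
  have h1 := h.fr.cardZ i
  rw [e, card_bot] at h1
  exact absurd (h.fr.blk i).one (by omega)

theorem z_ne (i : ι) : z i ≠ 1 := by
  intro e
  apply h.Z_ne i
  rw [eq_bot_iff]
  intro x hx
  rcases (h.hz i x).1 hx with e1 | e1
  · exact mem_bot.2 e1
  · exact mem_bot.2 (e1.trans e)

theorem z_sq (i : ι) : z i ^ 2 = 1 := h.fr.Vsq (h.fr.ZJV (h.z_mem i))

/-- an element of `Z i` other than `1` is `z i` -/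
theorem eq_z {i : ι} {x : G} (hx : x ∈ Z i) (hx1 : x ≠ 1) : x = z i := ((h.hz i x).1 hx).resolve_left hx1

theorem mem_cent_ZJ [Finite ι] {x : G} (hx : ∀ i, x * z i = z i * x) : x ∈ centralizer (ZJ : Set G) := by
  have h1 : ZJ ≤ centralizer ({x} : Set G) := by
    refine h.ZJ_le.trans (iSup_le fun i y hy => ?_)
    rw [mem_centralizer_singleton_iff]
    rcases (h.hz i y).1 hy with rfl | rfl
    · simp
    · exact (hx i).symm
  rw [mem_centralizer_iff]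
  exact fun y hy => mem_centralizer_singleton_iff.1 (h1 hy)

theorem cent_le_CT : centralizer (ZJ : Set G) ≤ CT z T := by
  refine centralizer_le ?_
  rintro _ ⟨l, -, rfl⟩
  exact h.z_mem l

theorem B_le_cent : B ≤ centralizer (ZJ : Set G) := by
  intro b hb
  rw [mem_centralizer_iff]
  exact fun v hv => (((h.fr.mem_ZJ v).1 hv).2 b hb).symm

/-- `L i ≤ C_T` for `i ∉ T` -/
theorem L_le_CT {i : ι} (hi : i ∉ T) : L i ≤ CT z T := by
  intro x hx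
  rw [mem_CT]
  intro l hl
  have hil : i ≠ l := fun e => hi (e ▸ hl)
  exact h.fr.LC i x hx (z l) (h.z_mem l) (h.fr.WjC i l hil ((h.fr.blk l).ZV (h.z_mem_Z l)))

theorem bau_two : IsPGroup 2 B := h.lb.Bp

theorem le_norm_B {R : Subgroup G} (hR : IsPGroup 2 R) (hB : B ≤ R) : R ≤ normalizer (B : Set G) :=
  h.lb.weakNormal R hR hB

theorem syl_B : Syl B (centralizer (ZJ : Set G)) := h.lb.syl

theorem norm_ZJ : normalizer (B : Set G) ≤ normalizer (ZJ : Set G) := h.lb.nrm B h.bau_two h.lb.KB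

theorem block (i : ι) : LemmaK.Block 2 B (L i) (W i) :=
  (h.fr.blk i).toBlock (h.fr.cardZ i) h.lb.Bp h.lb.weakNormal

theorem fbl (i : ι) : Node.MultiOf.FBl B (L i) (W i) := ⟨⟨_, _, h.fr.blk i⟩, h.block i⟩

theorem mem_Z_of_mem_W {i : ι} {x : G} (hx : x ∈ W i) (hxJ : x ∈ ZJ) : x ∈ Z i :=
  (h.fr.blk i).mem_Z_iff.2 ⟨hx, fun b hb => ((h.fr.mem_ZJ x).1 hxJ).2 b hb⟩

/-- `N_G(B)` permutes the `z i` and the `W i`. -/
theorem cj_z {g : G} (hg : g ∈ normalizer (B : Set G)) (i : ι) : ∃ j, g * z i * g⁻¹ = z j ∧ cj g (W i) = W j := by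
  obtain ⟨j, hj, -⟩ := h.uni _ _ ((h.fbl i).conj hg)
  refine ⟨j, h.eq_z (h.mem_Z_of_mem_W ?_ ?_) (fun e => h.z_ne i (conj_eq_one_iff.1 e)), hj⟩
  · rw [← hj]
    exact ⟨z i, (h.fr.blk i).ZV (h.z_mem_Z i), rfl⟩
  · exact (mem_normalizer_iff.1 (h.norm_ZJ hg) _).1 (h.z_mem i)

theorem cj_Z {g : G} (hg : g ∈ normalizer (B : Set G)) (i : ι) : ∃ j, g * z i * g⁻¹ = z j := by
  obtain ⟨j, hj, -⟩ := h.cj_z hg i
  exact ⟨j, hj⟩

theorem z_inj {i j : ι} (e : z i = z j) : i = j := by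
  by_contra hij
  have h1 : z i ∈ W i ⊓ C i := mem_inf.2 ⟨(h.fr.blk i).ZV (h.z_mem_Z i), by
    rw [e]; exact h.fr.WjC i j hij ((h.fr.blk j).ZV (h.z_mem_Z j))⟩
  rw [h.fr.dir i, mem_bot] at h1
  exact h.z_ne i h1

theorem Z_cent_L (i : ι) {x : G} (hz : x ∈ Z i) (hz1 : x ≠ 1) : x ∉ centralizer (L i : Set G) := by
  intro hzc
  obtain ⟨l, hl, hne, -⟩ := (h.fr.blk i).exists_mv
  have h1 := (h.fr.blk i).nat_tri (h.fr.cardZ i) hl hne
  have h2 : x ∈ cj l (Z i) ⊓ Z i := by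
    refine mem_inf.2 ⟨?_, hz⟩
    rw [mem_cj]
    have h3 := mem_centralizer_iff.1 hzc l hl
    have h4 : l⁻¹ * x * l = x := by
      calc l⁻¹ * x * l = l⁻¹ * (x * l) := by group
        _ = l⁻¹ * (l * x) := by rw [h3]
        _ = x := by group
    rwa [h4]
  rw [h1, mem_bot] at h2
  exact hz1 h2

/-- some `ρ ∈ L i` moves `z i` -/
theorem exists_rho (i : ι) : ∃ ρ ∈ L i, ρ * z i * ρ⁻¹ ∈ W i ∧ ρ * z i * ρ⁻¹ ∉ ZJ := by
  have h1 := h.Z_cent_L i (h.z_mem_Z i) (h.z_ne i)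
  rw [mem_centralizer_iff] at h1
  push Not at h1
  obtain ⟨ρ, hρ, hne⟩ := h1
  have hW : ρ * z i * ρ⁻¹ ∈ W i := (h.fr.blk i).nV ρ hρ _ ((h.fr.blk i).ZV (h.z_mem_Z i))
  refine ⟨ρ, hρ, hW, fun hJ => hne ?_⟩
  have h2 := h.eq_z (h.mem_Z_of_mem_W hW hJ) (fun e => h.z_ne i (conj_eq_one_iff.1 e))
  exact mul_inv_eq_iff_eq_mul.1 h2

variable (T)

/-- `O₂(C_T) ≤ N_G(B)` -/
theorem o2_CT_norm : o2 (CT z T) ≤ normalizer (B : Set G) := by
  have hB : B ≤ normalizer (o2 (CT z T) : Set G) :=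
    ((h.B_le_cent).trans (h.cent_le_CT)).trans (MinSimple.VModule.le_normalizer_o2 _)
  have h1 : IsPGroup 2 (B ⊔ o2 (CT z T) : Subgroup G) :=
    IsPGroup.to_sup_of_normal_right' h.bau_two (MinSimple.VModule.o2_isPGroup _) hB
  exact le_sup_right.trans (h.le_norm_B h1 le_sup_left)

/-- **`O₂(C_T)` centralises `ZJ`** -/
theorem o2_CT_le_cent [Finite ι] : o2 (CT z T) ≤ centralizer (ZJ : Set G) := by
  intro t ht
  have hle : o2 (CT z T) ≤ CT z T := Cfsg.Agent.ZN.o2_le _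
  have hN := h.o2_CT_norm T
  have hCn : CT z T ≤ normalizer (o2 (CT z T) : Set G) := MinSimple.VModule.le_normalizer_o2 _
  refine h.mem_cent_ZJ fun i => ?_
  by_cases hi : i ∈ T
  · exact mem_CT.1 (hle ht) i hi
  obtain ⟨j, hj⟩ := h.cj_Z (hN ht) i
  by_cases hji : j = i
  · rw [hji] at hj
    exact mul_inv_eq_iff_eq_mul.1 hj
  exfalso
  obtain ⟨m, hm⟩ := h.cj_Z (inv_mem (hN ht)) i
  rw [inv_inv] at hm
  have hmi : i ≠ m := by
    rintro rfl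
    apply hji
    refine h.z_inj ?_
    rw [← hj]
    calc t * z i * t⁻¹ = t * (t⁻¹ * z i * t) * t⁻¹ := by rw [hm]
      _ = z i := by group
  obtain ⟨ρ, hρ, hρW, hρJ⟩ := h.exists_rho i
  have hρC : ρ ∈ CT z T := h.L_le_CT hi hρ
  have hg : t * (ρ * t⁻¹ * ρ⁻¹) ∈ o2 (CT z T) :=
    mul_mem ht ((mem_normalizer_iff.1 (hCn hρC) _).1 (inv_mem ht))
  have hgJ := h.norm_ZJ (hN hg)
  have hρm : ρ * z m = z m * ρ :=
    h.fr.LC i ρ hρ (z m) (h.z_mem m) (h.fr.WjC i m hmi ((h.fr.blk m).ZV (h.z_mem_Z m)))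
  have e : (t * (ρ * t⁻¹ * ρ⁻¹)) * (ρ * z i * ρ⁻¹) * (t * (ρ * t⁻¹ * ρ⁻¹))⁻¹ = z i := by
    calc (t * (ρ * t⁻¹ * ρ⁻¹)) * (ρ * z i * ρ⁻¹) * (t * (ρ * t⁻¹ * ρ⁻¹))⁻¹
        = t * (ρ * (t⁻¹ * z i * t) * ρ⁻¹) * t⁻¹ := by group
      _ = t * (ρ * z m * ρ⁻¹) * t⁻¹ := by rw [hm]
      _ = t * z m * t⁻¹ := by rw [hρm, mul_inv_cancel_right]
      _ = t * (t⁻¹ * z i * t) * t⁻¹ := by rw [hm]
      _ = z i := by group
  apply hρJ
  refine (mem_normalizer_iff.1 hgJ _).2 ?_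
  rw [e]
  exact h.z_mem i

/-- **`O₂(C_T) ≤ B`** -/
theorem o2_CT_le_B [Finite ι] : o2 (CT z T) ≤ B := by
  have hB : B ≤ normalizer (o2 (CT z T) : Set G) :=
    ((h.B_le_cent).trans (h.cent_le_CT)).trans (MinSimple.VModule.le_normalizer_o2 _)
  have h1 : IsPGroup 2 (B ⊔ o2 (CT z T) : Subgroup G) :=
    IsPGroup.to_sup_of_normal_right' h.bau_two (MinSimple.VModule.o2_isPGroup _) hB
  have h2 := h.syl_B.2.2 _ (sup_le h.syl_B.1 (h.o2_CT_le_cent T)) h1 le_sup_left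
  exact le_sup_right.trans h2.le

/-- `O₂(C_T) ≤ O₂(X)` for `C(ZJ) ≤ X ≤ C_T` -/
theorem o2_CT_le_of_le [Finite ι] {X : Subgroup G} (h1 : centralizer (ZJ : Set G) ≤ X) (h2 : X ≤ CT z T) :
    o2 (CT z T) ≤ o2 X :=
  MinSimple.Basic.o2_normal_le_o2 ((h.o2_CT_le_cent T).trans h1) h2

theorem o2_CT_le_o2 [Finite ι] : o2 (CT z T) ≤ o2 (centralizer (ZJ : Set G)) :=
  h.o2_CT_le_of_le T le_rfl (h.cent_le_CT)

variable {T}

/-- `C_T` has characteristic 2 -/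
theorem char2_CT (hT : T.Nonempty) : CT z T ⊓ centralizer (o2 (CT z T) : Set G) ≤ o2 (CT z T) := by
  have e : CT z T = centralizer ((closure (z '' T) : Subgroup G) : Set G) := (centralizer_closure _).symm
  have hle : closure (z '' T) ≤ ZJ := by
    rw [closure_le]
    rintro _ ⟨l, -, rfl⟩
    exact h.z_mem l
  rw [e]
  refine NOne.LemmaT.char2_centralizer h.char2
    (h.bau_two.to_le ((hle.trans h.fr.ZJV).trans h.fr.VB)) ?_
  obtain ⟨l, hl⟩ := hT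
  intro e1
  have h1 : z l ∈ closure (z '' T) := subset_closure ⟨l, hl, rfl⟩
  rw [e1, mem_bot] at h1
  exact h.z_ne l h1

theorem ZJ_le_zc [Finite ι] (hT : T.Nonempty) : ZJ ≤ zc (o2 (CT z T)) := by
  have h1 : ZJ ≤ centralizer (o2 (CT z T) : Set G) := le_centralizer_iff.1 (h.o2_CT_le_cent T)
  have h2 : ZJ ≤ CT z T := by
    intro x hx
    rw [mem_CT]
    exact fun l _ => h.fr.Vc (h.fr.ZJV hx) (h.fr.ZJV (h.z_mem l))
  intro x hx
  exact mem_zc.2 ⟨h.char2_CT hT ⟨h2 hx, h1 hx⟩, h.fr.Vsq (h.fr.ZJV hx), fun y hy =>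
    mem_centralizer_iff.1 (h1 hx) y hy⟩

/-- **`E_T ≤ Ω₁Z(O₂(C_T))`** -/
theorem ET_le_zc [Finite ι] (hT : T.Nonempty) : ET ZJ z T ≤ zc (o2 (CT z T)) := by
  have hCn : CT z T ≤ normalizer (o2 (CT z T) : Set G) := MinSimple.VModule.le_normalizer_o2 _
  refine NoFF.Basic.V_le fun p hp x hx => ?_
  rw [NoFF.Basic.mem_conj] at hx
  have h1 := h.ZJ_le_zc hT hx
  rw [mem_zc] at h1 ⊢
  obtain ⟨h2, h3, h4⟩ := h1
  have e : x = p * (p⁻¹ * x * p) * p⁻¹ := by group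
  refine ⟨?_, ?_, fun y hy => ?_⟩
  · rw [e]
    exact (mem_normalizer_iff.1 (hCn hp) _).1 h2
  · rw [e, conj_pow, h3, mul_one, mul_inv_cancel]
  · have h5 : p⁻¹ * y * p ∈ o2 (CT z T) := by
      have := (mem_normalizer_iff.1 (hCn (inv_mem hp)) y).1 hy
      rwa [inv_inv] at this
    have h6 := h4 _ h5
    calc y * x = p * ((p⁻¹ * y * p) * (p⁻¹ * x * p)) * p⁻¹ := by group
      _ = p * ((p⁻¹ * x * p) * (p⁻¹ * y * p)) * p⁻¹ := by rw [h6]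
      _ = x * y := by group

theorem ET_le_o2 [Finite ι] (hT : T.Nonempty) : ET ZJ z T ≤ o2 (CT z T) :=
  fun _ hx => (mem_zc.1 (h.ET_le_zc hT hx)).1

/-- `E_T ≤ O₂(X)` for `C(ZJ) ≤ X ≤ C_T` -/
theorem ET_le_of_le [Finite ι] (hT : T.Nonempty) {X : Subgroup G} (h1 : centralizer (ZJ : Set G) ≤ X)
    (h2 : X ≤ CT z T) : ET ZJ z T ≤ o2 X := (h.ET_le_o2 hT).trans (h.o2_CT_le_of_le T h1 h2)

/-- `E_T ≤ O₂(C(ZJ))` -/
theorem ET_le_O [Finite ι] (hT : T.Nonempty) : ET ZJ z T ≤ o2 (centralizer (ZJ : Set G)) :=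
  (h.ET_le_o2 hT).trans (h.o2_CT_le_o2 T)

theorem ET_sq [Finite ι] (hT : T.Nonempty) {x : G} (hx : x ∈ ET ZJ z T) : x ^ 2 = 1 :=
  (mem_zc.1 (h.ET_le_zc hT hx)).2.1

theorem ET_comm [Finite ι] (hT : T.Nonempty) {x y : G} (hx : x ∈ ET ZJ z T) (hy : y ∈ ET ZJ z T) :
    x * y = y * x := ((mem_zc.1 (h.ET_le_zc hT hx)).2.2 y (h.ET_le_o2 hT hy)).symm

theorem ET_ab [Finite ι] (hT : T.Nonempty) : ET ZJ z T ≤ centralizer (ET ZJ z T : Set G) := by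
  intro x hx
  rw [mem_centralizer_iff]
  exact fun y hy => h.ET_comm hT hy hx

/-- `N_i ≤ O₂(Y_j)` (`i, j` arbitrary) if some index differs from `i` and `j` -/
theorem N_le_o2 [Finite ι] {i j : ι} (hT : (({i, j} : Set ι)ᶜ).Nonempty) :
    NoFF.Basic.V (zpowers (z i)) (CT z {i}ᶜ) ≤ o2 (CT z {j}ᶜ) :=
  (V_le_ET (zpowers_le.2 (h.z_mem i)) CT_compl_le).trans
    (h.ET_le_of_le hT (h.cent_le_CT) CT_compl_le')


end Sk0

end Cfsg.Agent.Omega.ESOne
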