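import Cfsg.Agent.Omega.NO3S.ESym.Frame
import Cfsg.Agent.Omega.ESOne.Abs

/-!
# THEOREM S (helper787, #23621): the frame `Sk`

`Fg B Q V ZJ L W Z C 2` (any index type, `Z i = {1, z i}`), the level `LB S K B ZJ`, UNI+ (`UniI`), block generation over `B`
(`BlkS K B B`), at least three blocks, `N_G(B)` 2-transitive on the `z i`, and (E) : `NLoc (KZ B ZJ)`.

* `DD ZJ = C_G(ZJ)`, `OO ZJ = O₂(DD)`, `YY ZJ L j = ⟨DD, L j⟩`, `NN ZJ L z j = ⟨z j ^ (YY j)⟩`.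
-/

set_option autoImplicit false

namespace Cfsg.Agent.Omega.ESOne

open Subgroup Cfsg Cfsg.Agent.ZN.ChoiceBase
open Cfsg.Agent.ZN (zc zl o2)
open Cfsg.Agent.Omega.NO3S.EThree.Frame (Fg)
open Cfsg.Agent.Omega.OM.LevD (LB)
open Cfsg.Agent.Omega.Node.MultiOf (KZ NLoc FBl)
open Cfsg.Agent.Omega.TC.OfMul (BlkS)
open Cfsg.Agent.Omega.NO3S.ESym (UniI)
open Cfsg.Agent.Omega.EK3.StarE (EE)

universe u

variable {G : Type u} [Group G]

/-- `D = C_G(ZJ)` -/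
def DD (ZJ : Subgroup G) : Subgroup G := centralizer (ZJ : Set G)

/-- `O = O₂(D)` -/
noncomputable def OO (ZJ : Subgroup G) : Subgroup G := o2 (centralizer (ZJ : Set G))

/-- `Y j = ⟨D, L j⟩` -/
def YY (ZJ : Subgroup G) {ι : Type} (L : ι → Subgroup G) (j : ι) : Subgroup G := centralizer (ZJ : Set G) ⊔ L j

/-- `N j = ⟨z j ^ (Y j)⟩` -/
def NN (ZJ : Subgroup G) {ι : Type} (L : ι → Subgroup G) (z : ι → G) (j : ι) : Subgroup G :=
  EE (zpowers (z j)) (YY ZJ L j)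

/-- The small frame: everything in `Base.lean` and `Fields.lean` is over it. -/
structure Sk0 [Finite G] (S : Sylow 2 G) (K B ZJ Q V : Subgroup G) {ι : Type} (L W Z C : ι → Subgroup G)
    (z : ι → G) : Prop where
  char2 : IsCharacteristicTwoType G
  lb : LB S K B ZJ
  fr : Fg B Q V ZJ L W Z C 2
  hz : ∀ i x, x ∈ Z i ↔ x = 1 ∨ x = z i
  uni : UniI B ZJ L W

/-- **The frame of THEOREM S** (2-transitive case). -/
structure Sk [Finite G] (S : Sylow 2 G) (K B ZJ Q V : Subgroup G) {ι : Type} (L W Z C : ι → Subgroup G)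
    (z : ι → G) : Prop extends Sk0 S K B ZJ Q V L W Z C z where
  blk : BlkS K B B
  nloc : NLoc (KZ B ZJ)
  three : ∀ i j : ι, ∃ l, l ≠ i ∧ l ≠ j
  tr : ∀ i j a b : ι, i ≠ j → a ≠ b → ∃ g ∈ normalizer (B : Set G), g * z i * g⁻¹ = z a ∧ g * z j * g⁻¹ = z b

end Cfsg.Agent.Omega.ESOne
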