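import Cfsg.Agent.Omega.ESOne.Def
import Cfsg.Agent.Omega.OM.FBBlock
import Cfsg.Agent.Omega.NOne.LemmaT

/-!
# THEOREM S (helper787, #23621), piece (T3): the field `kd`

Over the frame `Sk S K B ZJ Q V L W Z C z`:

* `Kd.fbl` : `L i` is an FF-block over `B` with module `W i`; `Kd.mem_cent`, `Kd.YY_comm`, `Kd.norm_B` (`Y j ∩ N(B) ≤ D`,
  for every `X` which centralises the `z l`, `l ≠ j`), `Kd.syl`, `Kd.char2_of`;
* `Kd.par` : a minimal parabolic over `B` in `Y j`, not in `D`, contains an FF-block over `B` with module `W j`;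
* `Sk.kd` : **a normal subgroup of `Y j` which moves `N j` covers `Y j` modulo `D`.**
-/

set_option autoImplicit false
set_option linter.unusedSectionVars false

namespace Cfsg.Agent.Omega.ESOne

open Subgroup Cfsg Cfsg.Agent.ZN.ChoiceBase
open Cfsg.Agent.ZN (zc zl o2)
open Cfsg.Agent.ZN.ChoiceSit (Syl o2_le_syl)
open Cfsg.Agent.Omega.NO3S.EThree.Frame (Fg)
open Cfsg.Agent.Omega.OM
open Cfsg.Agent.Omega.OM.Uni
open Cfsg.Agent.Omega.OM.LevD (LB)
open Cfsg.Agent.Omega.Node.MultiOf (KZ NLoc FBl)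
open Cfsg.Agent.Omega.TC.OfMul (BlkS)
open Cfsg.Agent.Omega.NO3S.ESym (UniI)
open Cfsg.Agent.Omega.EK3.StarE (EE cj_le_EE EE_le)
open Cfsg.Agent.MinSimple.MinParabolic (IsMinPar)
open Cfsg.Agent.MinSimple.VModule (le_normalizer_o2 o2_isPGroup le_o2)

universe u

variable {G : Type u} [Group G] [Finite G] {S : Sylow 2 G} {K B ZJ Q V : Subgroup G} {ι : Type}
  {L W Z C : ι → Subgroup G} {z : ι → G}

namespace Kd

variable (h : Sk S K B ZJ Q V L W Z C z)
include h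

/-- `L i` is an FF-block over `B` with module `W i` -/
theorem fbl (i : ι) : FBl B (L i) (W i) :=
  ⟨⟨Z i, 2, h.fr.blk i⟩, (h.fr.blk i).toBlock (h.fr.cardZ i) h.lb.Bp h.lb.weakNormal⟩

theorem mem_Z (i : ι) : z i ∈ Z i := (h.hz i _).2 (Or.inr rfl)

theorem z_ne (i : ι) : z i ≠ 1 := by
  intro e
  have h1 : Z i = ⊥ := by
    rw [eq_bot_iff]
    intro x hx
    rcases (h.hz i x).1 hx with h2 | h2
    · exact mem_bot.2 h2
    · exact mem_bot.2 (h2.trans e)
  have h2 := h.fr.cardZ i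
  rw [h1, card_bot] at h2
  omega

theorem mem_ZJ (i : ι) : z i ∈ ZJ := h.fr.Z_le i (mem_Z h i)

theorem mem_W (i : ι) : z i ∈ W i := (h.fr.blk i).ZV (mem_Z h i)

theorem eq_z {i : ι} {x : G} (hx : x ∈ Z i) (hx1 : x ≠ 1) : x = z i := ((h.hz i x).1 hx).resolve_left hx1

theorem inj {i j : ι} (e : z i = z j) : i = j := by
  by_contra hij
  have h1 : z i ∈ W i ⊓ C i := mem_inf.2 ⟨mem_W h i, by
    rw [e]; exact h.fr.WjC i j hij (mem_W h j)⟩
  rw [h.fr.dir i, mem_bot] at h1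
  exact z_ne h i h1

/-- `ZJ = ∏ Z i` -/
theorem ZJ_le [Finite ι] : ZJ ≤ ⨆ i, Z i := by
  classical
  have : Fintype ι := Fintype.ofFinite ι
  have key : ∀ s : Finset ι, ∀ v ∈ ZJ, ∃ w ∈ (⨆ i, Z i), w⁻¹ * v ∈ ZJ ∧ ∀ i ∈ s, w⁻¹ * v ∈ C i := by
    intro s
    induction s using Finset.induction_on with
    | empty => exact fun v hv => ⟨1, one_mem _, by simpa using hv, fun i hi => by simp at hi⟩
    | insert j s hj ih =>
      intro v hv
      obtain ⟨w, hw, hwV, hwC⟩ := ih v hv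
      obtain ⟨a, ha, c, hc, hcJ, e⟩ := h.fr.split_ZJ j hwV
      have e1 : (w * a)⁻¹ * v = a⁻¹ * (w⁻¹ * v) := by group
      have e2 : a⁻¹ * (w⁻¹ * v) = c := by rw [e]; group
      refine ⟨w * a, mul_mem hw ((le_iSup Z j) ha), by rw [e1, e2]; exact hcJ, fun i hi => ?_⟩
      rw [e1]
      rcases Finset.mem_insert.1 hi with rfl | hi
      · rw [e2]
        exact hc
      · have hij : i ≠ j := fun e => hj (e ▸ hi)
        exact mul_mem (inv_mem (h.fr.WjC i j hij ((h.fr.blk j).ZV ha))) (hwC i hi)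
  intro v hv
  obtain ⟨w, hw, hwV, hwC⟩ := key Finset.univ v hv
  have h1 := h.fr.C0 (w⁻¹ * v) (h.fr.ZJV hwV) fun i => hwC i (Finset.mem_univ i)
  have h2 : v = w := (inv_mul_eq_one.1 h1).symm
  rw [h2]
  exact hw

theorem mem_cent [Finite ι] {x : G} (hx : ∀ i, x * z i = z i * x) : x ∈ centralizer (ZJ : Set G) := by
  have h1 : ZJ ≤ centralizer ({x} : Set G) := by
    refine (ZJ_le h).trans (iSup_le fun i y hy => ?_)
    rw [mem_centralizer_singleton_iff]
    rcases (h.hz i y).1 hy with rfl | rfl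
    · simp
    · exact (hx i).symm
  rw [mem_centralizer_iff]
  exact fun y hy => mem_centralizer_singleton_iff.1 (h1 hy)

theorem cent {x : G} (hx : x ∈ centralizer (ZJ : Set G)) (i : ι) : x * z i = z i * x :=
  (mem_centralizer_iff.1 hx _ (mem_ZJ h i)).symm

omit h in
/-- the elements which centralise the `z l`, `l ≠ j` -/
def XX (z : ι → G) (j : ι) : Subgroup G := centralizer (z '' {l | l ≠ j})

omit h [Finite G] in
theorem mem_XX {j : ι} {x : G} : x ∈ XX z j ↔ ∀ l, l ≠ j → x * z l = z l * x := by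
  unfold XX
  rw [mem_centralizer_iff]
  constructor
  · exact fun h1 l hl => (h1 _ ⟨l, hl, rfl⟩).symm
  · rintro h1 _ ⟨l, hl, rfl⟩
    exact (h1 l hl).symm

theorem YY_le_XX (j : ι) : YY ZJ L j ≤ XX z j := by
  refine sup_le (fun x hx => mem_XX.2 fun l _ => cent h hx l) fun x hx => mem_XX.2 fun l hl => ?_
  exact h.fr.LC j x hx (z l) (mem_ZJ h l) (h.fr.WjC j l hl.symm (mem_W h l))

theorem D_le_XX (j : ι) : centralizer (ZJ : Set G) ≤ XX z j := (le_sup_left).trans (YY_le_XX h j)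

/-- an element of `XX z j` which centralises `z j` is in `D` -/
theorem stab [Finite ι] {j : ι} {x : G} (hx : x ∈ XX z j) (hxj : x * z j = z j * x) : x ∈ centralizer (ZJ : Set G) := by
  refine mem_cent h fun i => ?_
  by_cases hij : i = j
  · rw [hij]; exact hxj
  · exact mem_XX.1 hx i hij

/-- `N_G(B)` permutes the `z i` -/
theorem nrm {g : G} (hg : g ∈ normalizer (B : Set G)) (i : ι) : ∃ j, g * z i * g⁻¹ = z j := by
  obtain ⟨j, hj, -⟩ := h.uni _ _ ((fbl h i).conj hg)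
  refine ⟨j, eq_z h ?_ fun e => z_ne h i (conj_eq_one_iff.1 e)⟩
  rw [(h.fr.blk j).mem_Z_iff]
  refine ⟨?_, fun b hb => ?_⟩
  · rw [← hj]
    exact ⟨z i, mem_W h i, rfl⟩
  · have h1 : g⁻¹ * b * g ∈ B := by
      have := (mem_normalizer_iff.1 (inv_mem hg) b).1 hb
      rwa [inv_inv] at this
    have h2 := ((h.fr.blk i).mem_Z_iff.1 (mem_Z h i)).2 _ h1
    calc b * (g * z i * g⁻¹) = g * ((g⁻¹ * b * g) * z i) * g⁻¹ := by group
      _ = g * (z i * (g⁻¹ * b * g)) * g⁻¹ := by rw [h2]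
      _ = g * z i * g⁻¹ * b := by group

/-- `C_G(z l : l ≠ j) ∩ N_G(B) ≤ D` -/
theorem norm_B [Finite ι] (j : ι) : XX z j ⊓ normalizer (B : Set G) ≤ centralizer (ZJ : Set G) := by
  rintro g ⟨hg, hgB⟩
  refine stab h hg ?_
  obtain ⟨m, hm⟩ := nrm h hgB j
  have hmj : m = j := by
    by_contra hne
    have h1 : g * z m * g⁻¹ = z m := by rw [mem_XX.1 hg m hne]; group
    have h2 : z j = z m := by
      have h3 : g * z j * g⁻¹ = g * z m * g⁻¹ := hm.trans h1.symm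
      exact mul_left_cancel (mul_right_cancel h3)
    exact hne (inj h h2).symm
  rw [hmj] at hm
  exact mul_inv_eq_iff_eq_mul.1 hm

/-- **`B` is Sylow in `C_G(z l : l ≠ j)`** -/
theorem syl [Finite ι] (j : ι) : Syl B (XX z j) := by
  refine ⟨h.lb.Bc.trans (D_le_XX h j), h.lb.Bp, fun R hR h2 hBR => ?_⟩
  have h3 : R ≤ centralizer (ZJ : Set G) := fun r hr => norm_B h j ⟨hR hr, h.lb.two_le h2 hBR hr⟩
  exact h.lb.syl.2.2 R h3 h2 hBR

theorem syl_of [Finite ι] {j : ι} {R : Subgroup G} (hB : B ≤ R) (hR : R ≤ XX z j) : Syl B R :=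
  ⟨hB, h.lb.Bp, fun T hT h2 hBT => (syl h j).2.2 T (hT.trans hR) h2 hBT⟩

theorem char2 (j : ι) : XX z j ⊓ centralizer (o2 (XX z j) : Set G) ≤ o2 (XX z j) := by
  obtain ⟨l, hl, -⟩ := h.three j j
  have e : XX z j = centralizer ((closure (z '' {l | l ≠ j}) : Subgroup G) : Set G) := (centralizer_closure _).symm
  have hle : closure (z '' {l | l ≠ j}) ≤ ZJ := by
    rw [closure_le]
    rintro _ ⟨m, -, rfl⟩
    exact mem_ZJ h m
  rw [e]
  refine NOne.LemmaT.char2_centralizer h.char2 (h.lb.Bp.to_le (hle.trans h.lb.ZB)) fun e1 => ?_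
  have h1 : z l ∈ closure (z '' {l | l ≠ j}) := subset_closure ⟨l, hl, rfl⟩
  rw [e1, mem_bot] at h1
  exact z_ne h l h1

theorem o2_le_o2 [Finite ι] {j : ι} {R : Subgroup G} (hB : B ≤ R) (hR : R ≤ XX z j) : o2 (XX z j) ≤ o2 R :=
  le_o2 ((o2_le_syl (syl h j)).trans hB) (o2_isPGroup _) (hR.trans (le_normalizer_o2 _))

theorem char2_of [Finite ι] {j : ι} {R : Subgroup G} (hB : B ≤ R) (hR : R ≤ XX z j) :
    R ⊓ centralizer (o2 R : Set G) ≤ o2 R := by
  rintro x ⟨hx, hxc⟩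
  exact o2_le_o2 h hB hR (char2 h j ⟨hR hx, centralizer_le (by exact_mod_cast o2_le_o2 h hB hR) hxc⟩)

/-- a minimal parabolic over `B` in `C_G(z l : l ≠ j)`, not in `D`, contains an FF-block over `B` with module `W j` -/
theorem par [Finite ι] {j : ι} {R : Subgroup G} (hR : IsMinPar B R) (hRX : R ≤ XX z j)
    (hD : ¬ R ≤ centralizer (ZJ : Set G)) : ∃ L', FBl B L' (W j) ∧ L' ≤ R ∧ R ≤ L' ⊔ B := by
  have hK : ¬ K ≤ o2 R := by
    intro hK
    apply hD
    have h1 : R ≤ normalizer (ZJ : Set G) := (le_normalizer_o2 R).trans (h.lb.nrm _ (o2_isPGroup R) hK)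
    intro r hr
    obtain ⟨d, hd, n, hn, rfl⟩ := h.lb.exists_frattini (h1 hr)
    have h2 : n ∈ XX z j := by
      have := mul_mem (inv_mem (D_le_XX h j hd)) (hRX hr)
      rwa [inv_mul_cancel_left] at this
    exact mul_mem hd (norm_B h j ⟨h2, hn⟩)
  have hZ : ¬ R ≤ centralizer (zc B : Set G) := by rw [h.fr.zcB]; exact hD
  obtain ⟨L', V', hb, h1, h2⟩ := h.blk R hR (syl_of h hR.le hRX) (char2_of h hR.le hRX) hK hZ
  obtain ⟨i, rfl, -⟩ := h.uni L' V' hb
  have hij : i = j := by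
    by_contra hne
    obtain ⟨⟨Z', q', hF⟩, -⟩ := hb
    obtain ⟨l, hl, hmv, -⟩ := hF.exists_mv
    apply hmv
    have hZ' : Z' = Z i := by
      ext x
      rw [hF.toMd.mem_Z_iff, (h.fr.blk i).toMd.mem_Z_iff]
    rw [hZ']
    refine Subgroup.eq_of_le_of_card_ge ?_ (card_cj _ _).ge
    rintro _ ⟨x, hx, rfl⟩
    rcases (h.hz i x).1 hx with rfl | rfl
    · simp
    · change l * z i * l⁻¹ ∈ Z i
      rw [mem_XX.1 (hRX (h1 hl)) i hne, mul_inv_cancel_right]
      exact mem_Z h i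
  subst hij
  exact ⟨L', hb, h1, h2⟩

/-- an FF-block over `B` with module `W j` is transitive on `W j \ 1` -/
theorem trans {j : ι} {L' : Subgroup G} (hb : FBl B L' (W j)) {x : G} (hx : x ∈ W j) (hx1 : x ≠ 1) :
    ∃ l ∈ L', l * z j * l⁻¹ = x := by
  obtain ⟨⟨Z', q', hF⟩, -⟩ := hb
  obtain ⟨l, hl, hmv, hV⟩ := hF.exists_mv
  have hZ' : Z' = Z j := by
    ext x
    rw [hF.toMd.mem_Z_iff, (h.fr.blk j).toMd.mem_Z_iff]
  subst hZ'
  set y : G := l * z j * l⁻¹ with hy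
  have hyW : y ∈ W j := hF.nV l hl _ (mem_W h j)
  have hy1 : y ≠ 1 := fun e => z_ne h j (conj_eq_one_iff.1 e)
  have hyZ : y ∉ Z j := by
    intro h1
    apply hmv
    refine Subgroup.eq_of_le_of_card_ge ?_ (card_cj _ _).ge
    rintro _ ⟨x, hx, rfl⟩
    rcases (h.hz j x).1 hx with rfl | rfl
    · simp
    · exact h1
  have hn : Z j ≤ normalizer ((cj l (Z j) : Subgroup G) : Set G) := by
    intro a ha
    rw [mem_normalizer_iff]
    intro b
    have hc : ∀ b ∈ cj l (Z j), a * b * a⁻¹ = b := by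
      rintro _ ⟨c, hc, rfl⟩
      have h1 : l * c * l⁻¹ ∈ W j := hF.nV l hl _ (hF.ZV hc)
      change a * (l * c * l⁻¹) * a⁻¹ = l * c * l⁻¹
      rw [hF.toMd.comm (hF.ZV ha) h1, mul_inv_cancel_right]
    constructor
    · intro hb
      rw [hc b hb]
      exact hb
    · intro hb
      have h1 := hc _ hb
      have h2 : a * b * a⁻¹ = b := by
        have h3 : a * (a * b * a⁻¹) * a⁻¹ = a * b * a⁻¹ := h1
        exact mul_left_cancel (mul_right_cancel h3)
      rwa [h2] at hb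
  have hx' := hx
  rw [hV, ← SetLike.mem_coe, coe_mul_of_left_le_normalizer_right _ _ hn, Set.mem_mul] at hx'
  obtain ⟨a, ha, b, hb, rfl⟩ := hx'
  obtain ⟨c, hc, rfl⟩ := hb
  rw [MulEquiv.coe_toMonoidHom, MulAut.conj_apply] at hx1 ⊢
  rcases (h.hz j a).1 ha with rfl | rfl
  · rcases (h.hz j c).1 hc with rfl | rfl
    · exact absurd (by simp) hx1
    · exact ⟨l, hl, by rw [one_mul]⟩
  · rcases (h.hz j c).1 hc with rfl | rfl
    · exact ⟨1, one_mem _, by simp⟩
    · obtain ⟨b, hb, v, hv, hne⟩ := hF.ne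
      have h1 : b * y ≠ y * b := fun e => hne (hF.free b hb y hyW hyZ e v hv)
      have h2 : b * y * b⁻¹ * y⁻¹ = z j := by
        refine eq_z h (hF.com b hb y hyW) fun e => h1 ?_
        have h3 : b * y * b⁻¹ = y := mul_inv_eq_one.1 e
        exact mul_inv_eq_iff_eq_mul.1 h3
      refine ⟨b * l, mul_mem (hF.BL hb) hl, ?_⟩
      have h3 : b * y * b⁻¹ = z j * y := mul_inv_eq_iff_eq_mul.1 h2
      calc b * l * z j * (b * l)⁻¹ = b * (l * z j * l⁻¹) * b⁻¹ := by group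
        _ = z j * (l * z j * l⁻¹) := h3

/-- `L j ≤ L' D` for an FF-block `L' ≤ C_G(z l : l ≠ j)` over `B` with module `W j` -/
theorem L_le [Finite ι] {j : ι} {L' : Subgroup G} (hb : FBl B L' (W j)) (hL' : L' ≤ XX z j) :
    L j ≤ L' ⊔ centralizer (ZJ : Set G) := by
  intro l hl
  have hlX : l ∈ XX z j := YY_le_XX h j (mem_sup_right hl)
  obtain ⟨l', hl', e⟩ := trans h hb ((h.fr.blk j).nV l hl _ (mem_W h j)) fun e => z_ne h j (conj_eq_one_iff.1 e)
  have h1 : l'⁻¹ * l ∈ centralizer (ZJ : Set G) := by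
    refine stab h (mul_mem (inv_mem (hL' hl')) hlX) ?_
    have h2 : l' * z j * l'⁻¹ = l * z j * l⁻¹ := e
    calc l'⁻¹ * l * z j = l'⁻¹ * (l * z j * l⁻¹) * l := by group
      _ = l'⁻¹ * (l' * z j * l'⁻¹) * l := by rw [h2]
      _ = z j * (l'⁻¹ * l) := by group
  have e1 : l = l' * (l'⁻¹ * l) := by group
  rw [e1]
  exact mul_mem (mem_sup_left hl') (mem_sup_right h1)

end Kd

/-- **(T3)** A normal subgroup of `Y j` which moves `N j` covers `Y j` modulo `D`. -/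
theorem Sk.kd [Finite ι] (h : Sk S K B ZJ Q V L W Z C z) (j : ι) (K' : Subgroup G) (hK : K' ≤ YY ZJ L j)
    (hn : YY ZJ L j ≤ normalizer (K' : Set G)) (hm : ¬ K' ≤ centralizer (NN ZJ L z j : Set G)) :
    YY ZJ L j ≤ K' ⊔ DD ZJ := by
  have hD : ¬ K' ≤ centralizer (ZJ : Set G) := by
    intro hD
    apply hm
    rw [le_centralizer_iff]
    refine EE_le fun y hy => ?_
    rw [← le_centralizer_iff]
    rw [← cj_eq_of_mem_normalizer (hn hy), ← cj_centralizer]
    refine cj_mono y (hD.trans (centralizer_le ?_))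
    have : zpowers (z j) ≤ ZJ := by
      rw [zpowers_le]; exact Kd.mem_ZJ h j
    exact_mod_cast this
  have hMX : K' ⊔ centralizer (ZJ : Set G) ≤ Kd.XX z j := sup_le (hK.trans (Kd.YY_le_XX h j)) (Kd.D_le_XX h j)
  by_contra hcon
  apply hD
  refine le_trans le_sup_left (MinSimple.MinParabolic.le_of_forall (S := B) (X := K' ⊔ centralizer (ZJ : Set G))
    (h.lb.Bc.trans le_sup_right) ((inf_le_inf_right _ hMX).trans (Kd.norm_B h j)) fun R hR hRM => ?_)
  by_contra hRD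
  obtain ⟨L', hb, h1, h2⟩ := Kd.par h hR (hRM.trans hMX) hRD
  apply hcon
  exact sup_le le_sup_right ((Kd.L_le h hb (h1.trans (hRM.trans hMX))).trans (sup_le (h1.trans hRM) le_sup_right))

end Cfsg.Agent.Omega.ESOne
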